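import Groth.Agent.Sga3A.H781.RepIdeal
import Mathlib.AlgebraicGeometry.Morphisms.FinitePresentation
import Mathlib.AlgebraicGeometry.Morphisms.ClosedImmersion
import Mathlib.AlgebraicGeometry.IdealSheaf.Subscheme

/-!
# Representability of `Y_T = Z_T` when `Z` is covered by affine opens with projective sections
-/

set_option autoImplicit false
universe u

open CategoryTheory CategoryTheory.Limits AlgebraicGeometry

namespace Groth.Agent.Sga3A.H781.EssFree

open Groth.Agent.Picfga.IdealGlue Groth.Agent.Picfga.IdealDescent Groth.Agent.Divis.IdealComap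
open Groth.Agent.Sga3A.H781.CoefIdeal Groth.Agent.Sga3A.H781.RepIdeal

variable {S Z Y : Scheme.{u}} {f : Z ⟶ S} {j : Y ⟶ Z}

/-- The ideal of a closed immersion of finite presentation is locally finitely generated. -/
theorem fg_ker_ideal {X Y : Scheme.{u}} (j : Y ⟶ X) [IsClosedImmersion j]
    [LocallyOfFinitePresentation j] (U : X.affineOpens) :
    (j.ker.ideal U).FG := by
  have hUY : IsAffineOpen (j ⁻¹ᵁ U.1) := U.2.preimage j
  have h1 : (j.appLE U.1 (j ⁻¹ᵁ U.1) le_rfl).hom.FinitePresentation :=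
    j.finitePresentation_appLE U.2 hUY le_rfl
  have h2 : j.appLE U.1 (j ⁻¹ᵁ U.1) le_rfl = j.app U.1 := j.app_eq_appLE.symm
  rw [h2] at h1
  let _ : Algebra Γ(X, U.1) Γ(Y, j ⁻¹ᵁ U.1) := (j.app U.1).hom.toAlgebra
  have hfp : Algebra.FinitePresentation Γ(X, U.1) Γ(Y, j ⁻¹ᵁ U.1) := h1
  have h3 := Algebra.FinitePresentation.ker_fG_of_surjective
    (Algebra.ofId Γ(X, U.1) Γ(Y, j ⁻¹ᵁ U.1)) (j.app_surjective U.1 U.2)
  rw [Scheme.Hom.ker_apply]
  exact h3

/-- A closed subscheme with locally finitely generated ideal is of finite presentation. -/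
theorem locallyOfFinitePresentation_subschemeι (I : S.IdealSheafData)
    (h : ∀ s : S, ∃ V : S.affineOpens, s ∈ V.1 ∧ (I.ideal V).FG) :
    LocallyOfFinitePresentation I.subschemeι := by
  let ι := {V : S.affineOpens // (I.ideal V).FG}
  let 𝒰 : I.subscheme.OpenCover := Scheme.Cover.mkOfCovers ι
    (fun V => Spec (I.subschemeCover.X V.1)) (fun V => I.subschemeCover.f V.1) (by
      intro x
      obtain ⟨V, hsV, hV⟩ := h (I.subschemeι x)
      have h1 : x ∈ (I.subschemeCover.f V).opensRange := by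
        rw [Scheme.IdealSheafData.opensRange_subschemeCover_map]
        exact hsV
      obtain ⟨y, hy⟩ := h1
      exact ⟨⟨V, hV⟩, y, hy⟩) (fun V => inferInstance)
  rw [IsZariskiLocalAtSource.iff_of_openCover (P := @LocallyOfFinitePresentation) 𝒰]
  intro V
  let V' : ι := V
  change LocallyOfFinitePresentation (I.subschemeCover.f V'.1 ≫ I.subschemeι)
  have h2 : I.subschemeCover.f V'.1 ≫ I.subschemeι =
      Spec.map (CommRingCat.ofHom (Ideal.Quotient.mk (I.ideal V'.1))) ≫ V'.1.2.fromSpec :=
    Scheme.IdealSheafData.subschemeCover_map_subschemeι I V'.1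
  rw [h2]
  have h3 : LocallyOfFinitePresentation
      (Spec.map (CommRingCat.ofHom (Ideal.Quotient.mk (I.ideal V'.1)))) := by
    rw [LocallyOfFinitePresentation.SpecMap_iff]
    exact RingHom.FinitePresentation.of_surjective _ Ideal.Quotient.mk_surjective (by
      rw [CommRingCat.hom_ofHom, Ideal.mk_ker]
      exact V'.2)
  have h4 : LocallyOfFinitePresentation V'.1.2.fromSpec := inferInstance
  exact @locallyOfFinitePresentation_comp _ _ _ _ _ h3 h4

theorem comap_eq_bot_iff_top {X Y : Scheme.{u}} [IsAffine X] [IsAffine Y] (I : Y.IdealSheafData)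
    (f : X ⟶ Y) :
    I.comap f = ⊥ ↔ I.ideal ⟨⊤, isAffineOpen_top Y⟩ ≤ RingHom.ker f.appTop.hom := by
  have h1 := ideal_comap_top I f
  have h2 : I.ideal ⟨⊤, isAffineOpen_top Y⟩ ≤ RingHom.ker f.appTop.hom ↔
      (I.ideal ⟨⊤, isAffineOpen_top Y⟩).map f.appTop.hom = ⊥ := by
    rw [← le_bot_iff, Ideal.map_le_iff_le_comap]
    rfl
  rw [h2, ← h1]
  constructor
  · intro h
    rw [h]
    rfl
  · intro h
    exact Scheme.IdealSheafData.ext_of_isAffine h

/-- The ideal of `Y` in the affine open `V` of `Z_X`. -/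
noncomputable def idl (j : Y ⟶ Z) {X : Scheme.{u}} (h : X ⟶ S) (V : (pullback f h).Opens)
    (hV : IsAffineOpen V) : Ideal Γ(↑V, ⊤) :=
  (j.ker.comap (V.ι ≫ pullback.fst f h)).ideal ⟨⊤, @isAffineOpen_top _ hV⟩

/-- Vanishing over an affine `W` tested on the members of an affine cover of `Z_X`. -/
theorem van_iff_forall {X : Scheme.{u}} [IsAffine X] (h : X ⟶ S) {ι : Type u}
    (V : ι → (pullback f h).Opens) (hV : ∀ i, IsAffineOpen (V i))
    (hcov : ∀ x : ↥(pullback f h), ∃ i, x ∈ V i) {W : Scheme.{u}} [IsAffine W] (a : W ⟶ X) :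
    Van f j (a ≫ h) ↔ ∀ i, idl j h (V i) (hV i) ≤
      RingHom.ker (pullback.fst ((V i).ι ≫ pullback.snd f h) a).appTop.hom := by
  have hVa : ∀ i, IsAffine (V i).toScheme := fun i => hV i
  let b : ∀ i, pullback ((V i).ι ≫ pullback.snd f h) a ⟶ pullback f (a ≫ h) := fun i =>
    pullback.lift (pullback.fst _ _ ≫ (V i).ι ≫ pullback.fst f h) (pullback.snd _ _) (by
      rw [Category.assoc, Category.assoc, pullback.condition, ← pullback.condition_assoc,
        Category.assoc])
  have hb : ∀ i, IsPullback (pullback.fst ((V i).ι ≫ pullback.snd f h) a) (b i) (V i).ι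
      (tr f a h) := by
    intro i
    have h0 : b i ≫ pullback.snd f (a ≫ h) = pullback.snd ((V i).ι ≫ pullback.snd f h) a :=
      pullback.lift_snd _ _ _
    have h1 : b i ≫ tr f a h = pullback.fst ((V i).ι ≫ pullback.snd f h) a ≫ (V i).ι := by
      apply pullback.hom_ext
      · rw [Category.assoc, tr_fst, pullback.lift_fst, Category.assoc]
      · rw [Category.assoc, tr_snd, reassoc_of% h0, ← pullback.condition, Category.assoc]
    refine (IsPullback.of_right (t := (isPullback_tr f a h).flip) ?_ h1).flip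
    rw [h0]
    exact (IsPullback.of_hasPullback ((V i).ι ≫ pullback.snd f h) a).flip
  have hbo : ∀ i, IsOpenImmersion (b i) := fun i =>
    MorphismProperty.of_isPullback (hb i) inferInstance
  have key : ∀ i, idl j h (V i) (hV i) ≤
      RingHom.ker (pullback.fst ((V i).ι ≫ pullback.snd f h) a).appTop.hom ↔
      j.ker.comap (b i ≫ pullback.fst f (a ≫ h)) = ⊥ := by
    intro i
    have h1 : b i ≫ pullback.fst f (a ≫ h) =
      pullback.fst ((V i).ι ≫ pullback.snd f h) a ≫ ((V i).ι ≫ pullback.fst f h) :=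
      pullback.lift_fst _ _ _
    rw [h1, Scheme.IdealSheafData.comap_comp]
    exact (comap_eq_bot_iff_top _ _).symm
  simp only [key]
  constructor
  · intro h0 i
    rw [Scheme.IdealSheafData.comap_comp, h0, Scheme.IdealSheafData.comap_bot]
  · intro h0
    refine ext_of_forall_exists fun y => ?_
    obtain ⟨i, hi⟩ := hcov (tr f a h y)
    obtain ⟨t, -, ht⟩ := Scheme.exists_preimage_of_isPullback (hb i) ⟨_, hi⟩ y rfl
    refine ⟨_, b i, hbo i, t, ht, ?_⟩
    rw [← Scheme.IdealSheafData.comap_comp, h0, Scheme.IdealSheafData.comap_bot]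

/-- Local existence of the representing ideal sheaf. -/
theorem exists_isRep_local {X : Scheme.{u}} [IsAffine X] (h : X ⟶ S) {ι : Type u}
    (V : ι → (pullback f h).Opens) (hV : ∀ i, IsAffineOpen (V i))
    (hcov : ∀ x : ↥(pullback f h), ∃ i, x ∈ V i)
    (hproj : ∀ i, letI := ((V i).ι ≫ pullback.snd f h).appTop.hom.toAlgebra
      Module.Projective Γ(X, ⊤) Γ(↑(V i), ⊤)) :
    ∃ K : X.IdealSheafData, IsRep f j h K ∧
      (Finite ι → IsClosedImmersion j → LocallyOfFinitePresentation j →
        (K.ideal ⟨⊤, isAffineOpen_top X⟩).FG) := by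
  have hVa : ∀ i, IsAffine (V i).toScheme := fun i => hV i
  let J : ι → Ideal Γ(X, ⊤) := fun i =>
    letI := ((V i).ι ≫ pullback.snd f h).appTop.hom.toAlgebra
    coefIdeal Γ(X, ⊤) (idl j h (V i) (hV i))
  let K : X.IdealSheafData := Scheme.IdealSheafData.equivOfIsAffine.symm (⨆ i, J i)
  have hK : K.ideal ⟨⊤, isAffineOpen_top X⟩ = ⨆ i, J i :=
    Scheme.IdealSheafData.equivOfIsAffine.apply_symm_apply _
  have haff : ∀ (W : Scheme.{u}) [IsAffine W] (a : W ⟶ X), K.comap a = ⊥ ↔ Van f j (a ≫ h) := by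
    intro W _ a
    rw [comap_eq_bot_iff_top, hK, iSup_le_iff, van_iff_forall h V hV hcov a]
    refine forall_congr' fun i => ?_
    have h1 := isPushout_appTop_of_isPullback
      (IsPullback.of_hasPullback ((V i).ι ≫ pullback.snd f h) a)
    exact (le_ker_iff h1 (hproj i) _).symm
  refine ⟨K, fun W a => ?_, ?_⟩
  · constructor
    · intro h0
      refine Van.of_forall_exists f j fun w => ?_
      obtain ⟨U, hU, hw, -⟩ := exists_isAffineOpen_mem_and_subset (U := (⊤ : W.Opens)) (x := w)
        trivial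
      have : IsAffine U := hU
      refine ⟨U, U.ι, inferInstance, ⟨w, hw⟩, rfl, ?_⟩
      rw [← Category.assoc, ← haff, Scheme.IdealSheafData.comap_comp, h0,
        Scheme.IdealSheafData.comap_bot]
    · intro h0
      refine ext_of_forall_exists fun w => ?_
      obtain ⟨U, hU, hw, -⟩ := exists_isAffineOpen_mem_and_subset (U := (⊤ : W.Opens)) (x := w)
        trivial
      have : IsAffine U := hU
      refine ⟨U, U.ι, inferInstance, ⟨w, hw⟩, rfl, ?_⟩
      rw [← Scheme.IdealSheafData.comap_comp, Scheme.IdealSheafData.comap_bot, haff,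
        Category.assoc]
      exact h0.comp f j _
  · intro hfin hcl hfp
    rw [hK]
    have : ∀ i, (J i).FG := by
      intro i
      let := ((V i).ι ≫ pullback.snd f h).appTop.hom.toAlgebra
      have := hproj i
      apply fg_coefIdeal
      rw [idl, ← Scheme.IdealSheafData.ker_fst_of_isClosedImmersion]
      exact fg_ker_ideal _ _
    exact Submodule.fg_iSup _ this

end Groth.Agent.Sga3A.H781.EssFree
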