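import Mathlib.Algebra.Module.Projective
import Mathlib.Algebra.Category.Ring.Constructions
import Mathlib.RingTheory.TensorProduct.Maps
import Mathlib.RingTheory.Ideal.Maps
import Mathlib.RingTheory.Ideal.Quotient.Operations
import Mathlib.RingTheory.Finiteness.Ideal

/-!
# The coefficient ideal of an ideal in a projective algebra
-/

universe u

open CategoryTheory TensorProduct

namespace Groth.Agent.Sga3A.H781.CoefIdeal

/-- The ideal of `A` generated by the values on `I` of all `A`-linear forms of `B`. -/
def coefIdeal (A : Type u) {B : Type u} [CommRing A] [CommRing B] [Algebra A B] (I : Ideal B) :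
    Ideal A :=
  Ideal.span {a | ∃ (φ : B →ₗ[A] A) (x : B), x ∈ I ∧ φ x = a}

lemma apply_mem_coefIdeal {A B : Type u} [CommRing A] [CommRing B] [Algebra A B] {I : Ideal B}
    (φ : B →ₗ[A] A) {x : B} (hx : x ∈ I) : φ x ∈ coefIdeal A I :=
  Ideal.subset_span ⟨φ, x, hx, rfl⟩

/-- Vanishing of the coefficient ideal in `R` is the vanishing of `I` in the base change. -/
theorem le_ker_iff {A B R C : CommRingCat.{u}} {f : A ⟶ B} {g : A ⟶ R} {inl : B ⟶ C} {inr : R ⟶ C}
    (h : IsPushout f g inl inr)
    (hproj : letI := f.hom.toAlgebra; Module.Projective A B) (I : Ideal B) :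
    I ≤ RingHom.ker inl.hom ↔ (letI := f.hom.toAlgebra; coefIdeal A I) ≤ RingHom.ker g.hom := by
  let := f.hom.toAlgebra
  let := g.hom.toAlgebra
  constructor
  · intro hI
    refine Ideal.span_le.mpr ?_
    rintro _ ⟨φ, x, hx, rfl⟩
    have h1 : inl.hom x = 0 := hI hx
    have hp := CommRingCat.isPushout_tensorProduct A B R
    have hf : CommRingCat.ofHom (algebraMap A B) = f := rfl
    have hg : CommRingCat.ofHom (algebraMap A R) = g := rfl
    rw [hf, hg] at hp
    have h2 : (inl ≫ (h.isoIsPushout B R hp).hom) = _ := h.inl_isoIsPushout_hom B R hp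
    have h3 : (x ⊗ₜ[A] (1 : R) : B ⊗[A] R) = 0 := by
      have := congr($(h2).hom x)
      simp only [CommRingCat.hom_comp, RingHom.comp_apply, h1, map_zero] at this
      exact this.symm
    have h4 := congr((TensorProduct.lid A R) (LinearMap.rTensor R φ $h3))
    simp only [LinearMap.rTensor_tmul, TensorProduct.lid_tmul, map_zero, Algebra.smul_def,
      mul_one] at h4
    exact h4
  · intro hJ x hx
    obtain ⟨s, hs⟩ := (Module.projective_def (R := A) (P := B)).1 hproj
    have h1 : x = Finsupp.linearCombination A id (s x) := (hs x).symm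
    rw [RingHom.mem_ker, h1, Finsupp.linearCombination_apply, Finsupp.sum, map_sum]
    refine Finset.sum_eq_zero fun b _ => ?_
    have h2 : (s x b) ∈ coefIdeal A I :=
      apply_mem_coefIdeal ((Finsupp.lapply b).comp s) hx
    have h3 : g.hom (s x b) = 0 := hJ h2
    have h4 : inl.hom (f.hom (s x b)) = inr.hom (g.hom (s x b)) := by
      have := congr($(h.w).hom (s x b))
      simpa using this
    rw [Algebra.smul_def, map_mul, show algebraMap A B (s x b) = f.hom (s x b) from rfl, h4, h3,
      map_zero, zero_mul]

/-- The coefficient ideal of a finitely generated ideal is finitely generated. -/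
theorem fg_coefIdeal {A B : Type u} [CommRing A] [CommRing B] [Algebra A B]
    [hproj : Module.Projective A B] (I : Ideal B) (hI : I.FG) : (coefIdeal A I).FG := by
  classical
  obtain ⟨t, rfl⟩ := hI
  obtain ⟨s, hs⟩ := (Module.projective_def (R := A) (P := B)).1 hproj
  let T : Finset A := t.biUnion fun x => (s x).support.image (s x)
  refine ⟨T, le_antisymm ?_ ?_⟩
  · refine Ideal.span_le.mpr ?_
    intro a ha
    simp only [T, Finset.coe_biUnion, Set.mem_iUnion, Finset.mem_coe, Finset.coe_image,
      Set.mem_image] at ha
    obtain ⟨x, hx, b, -, rfl⟩ := ha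
    exact apply_mem_coefIdeal ((Finsupp.lapply b).comp s) (Ideal.subset_span hx)
  · refine Ideal.span_le.mpr ?_
    rintro _ ⟨φ, x, hx, rfl⟩
    have key : ∀ x ∈ Ideal.span (t : Set B), ∀ c : B, φ (c * x) ∈ Ideal.span (T : Set A) := by
      intro x hx
      induction hx using Submodule.span_induction with
      | mem y hy =>
        intro c
        have h1 : y = Finsupp.linearCombination A id (s y) := (hs y).symm
        rw [h1, Finsupp.linearCombination_apply, Finsupp.sum, Finset.mul_sum, map_sum]
        refine sum_mem fun b hb => ?_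
        rw [mul_smul_comm, map_smul, smul_eq_mul]
        refine Ideal.mul_mem_right _ _ (Ideal.subset_span ?_)
        simp only [T, Finset.coe_biUnion, Set.mem_iUnion, Finset.mem_coe, Finset.coe_image,
          Set.mem_image]
        exact ⟨y, hy, b, hb, rfl⟩
      | zero => intro c; simp
      | add y z _ _ h1 h2 => intro c; rw [mul_add, map_add]; exact Ideal.add_mem _ (h1 c) (h2 c)
      | smul c' y _ h => intro c; rw [smul_eq_mul, ← mul_assoc]; exact h _
    simpa using key x hx 1

end Groth.Agent.Sga3A.H781.CoefIdeal
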