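import Groth.Agent.Sga3A.H781.CoefIdeal
import Groth.Agent.Picfga.IdealGlue
import Mathlib.AlgebraicGeometry.Morphisms.LocalFlatDescent

/-!
# Representing the condition `Y_T = Z_T` by an ideal sheaf

For `f : Z ⟶ S` and a closed immersion `j : Y ⟶ Z`, `IsRep f j h K` says that the closed subscheme of `X` cut out by
the ideal sheaf `K` represents the condition that `j` becomes an isomorphism after base change (on schemes over `X`,
via `h : X ⟶ S`).
-/

set_option autoImplicit false
universe u

open CategoryTheory CategoryTheory.Limits AlgebraicGeometry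

namespace Groth.Agent.Sga3A.H781.RepIdeal

open Groth.Agent.Picfga.IdealGlue Groth.Agent.Picfga.IdealDescent Groth.Agent.Divis.IdealComap

variable {S Z Y : Scheme.{u}} (f : Z ⟶ S) (j : Y ⟶ Z)

/-- The ideal of `Y_X` in `Z_X` is zero. -/
def Van {X : Scheme.{u}} (h : X ⟶ S) : Prop := j.ker.comap (pullback.fst f h) = ⊥

theorem van_iff_isIso [IsClosedImmersion j] {X : Scheme.{u}} (h : X ⟶ S) :
    Van f j h ↔ IsIso (pullback.snd j (pullback.fst f h)) := by
  rw [Van, ← Scheme.IdealSheafData.ker_fst_of_isClosedImmersion, ← IsClosedImmersion.isIso_iff_ker_eq_bot]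
  have h1 : (pullbackSymmetry j (pullback.fst f h)).hom ≫ pullback.fst (pullback.fst f h) j =
      pullback.snd j (pullback.fst f h) := by simp
  constructor
  · intro h2
    rw [← h1]
    infer_instance
  · intro h2
    rw [← h1] at h2
    exact IsIso.of_isIso_comp_left (pullbackSymmetry j (pullback.fst f h)).hom _

/-- The transition map. -/
noncomputable def tr {X X' : Scheme.{u}} (b : X' ⟶ X) (h : X ⟶ S) :
    pullback f (b ≫ h) ⟶ pullback f h :=
  pullback.lift (pullback.fst _ _) (pullback.snd _ _ ≫ b) (by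
    rw [pullback.condition, Category.assoc])

@[reassoc (attr := simp)]
theorem tr_fst {X X' : Scheme.{u}} (b : X' ⟶ X) (h : X ⟶ S) :
    tr f b h ≫ pullback.fst f h = pullback.fst f (b ≫ h) := pullback.lift_fst _ _ _

@[reassoc (attr := simp)]
theorem tr_snd {X X' : Scheme.{u}} (b : X' ⟶ X) (h : X ⟶ S) :
    tr f b h ≫ pullback.snd f h = pullback.snd f (b ≫ h) ≫ b := pullback.lift_snd _ _ _

theorem isPullback_tr {X X' : Scheme.{u}} (b : X' ⟶ X) (h : X ⟶ S) :
    IsPullback (tr f b h) (pullback.snd f (b ≫ h)) (pullback.snd f h) b := by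
  refine IsPullback.of_right (t := IsPullback.of_hasPullback f h) ?_ (tr_snd f b h)
  rw [tr_fst]
  exact IsPullback.of_hasPullback f (b ≫ h)

theorem Van.comp {X X' : Scheme.{u}} (b : X' ⟶ X) {h : X ⟶ S} (hv : Van f j h) :
    Van f j (b ≫ h) := by
  rw [Van, ← tr_fst f b h, Scheme.IdealSheafData.comap_comp, hv,
    Scheme.IdealSheafData.comap_bot]

theorem Van.of_fpqc {X X' : Scheme.{u}} (b : X' ⟶ X) [Flat b] [Surjective b] [QuasiCompact b]
    {h : X ⟶ S} (hv : Van f j (b ≫ h)) : Van f j h := by
  have h1 : Flat (tr f b h) := MorphismProperty.of_isPullback (isPullback_tr f b h).flip inferInstance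
  have h2 : Surjective (tr f b h) :=
    MorphismProperty.of_isPullback (isPullback_tr f b h).flip inferInstance
  have h3 : QuasiCompact (tr f b h) :=
    MorphismProperty.of_isPullback (isPullback_tr f b h).flip inferInstance
  apply comap_injective_of_fpqc (tr f b h)
  change (j.ker.comap (pullback.fst f h)).comap (tr f b h) = Scheme.IdealSheafData.comap ⊥ (tr f b h)
  rw [← Scheme.IdealSheafData.comap_comp, tr_fst, hv, Scheme.IdealSheafData.comap_bot]

/-- The vanishing condition is Zariski local (pointwise form). -/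
theorem Van.of_forall_exists {X : Scheme.{u}} {h : X ⟶ S}
    (hv : ∀ x : X, ∃ (W : Scheme.{u}) (b : W ⟶ X) (_ : IsOpenImmersion b) (w : W), b w = x ∧
      Van f j (b ≫ h)) : Van f j h := by
  refine ext_of_forall_exists fun y => ?_
  obtain ⟨W, b, hb, w, hw, hv⟩ := hv (pullback.snd f h y)
  have h1 : IsOpenImmersion (tr f b h) :=
    MorphismProperty.of_isPullback (isPullback_tr f b h).flip inferInstance
  obtain ⟨t, ht, -⟩ := Scheme.exists_preimage_of_isPullback (isPullback_tr f b h) y w hw.symm
  refine ⟨_, tr f b h, h1, t, ht, ?_⟩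
  rw [← Scheme.IdealSheafData.comap_comp, tr_fst, hv, Scheme.IdealSheafData.comap_bot]

/-- `K` represents the vanishing condition over `X`. -/
def IsRep {X : Scheme.{u}} (h : X ⟶ S) (K : X.IdealSheafData) : Prop :=
  ∀ (W : Scheme.{u}) (a : W ⟶ X), K.comap a = ⊥ ↔ Van f j (a ≫ h)

variable {f j}

theorem comap_subschemeι {X : Scheme.{u}} (K : X.IdealSheafData) : K.comap K.subschemeι = ⊥ := by
  rw [← le_bot_iff, ← Scheme.IdealSheafData.le_map_iff_comap_le, Scheme.IdealSheafData.map_bot,
    Scheme.IdealSheafData.ker_subschemeι]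

theorem comap_eq_bot_iff {X W : Scheme.{u}} (K : X.IdealSheafData) (a : W ⟶ X) :
    K.comap a = ⊥ ↔ K ≤ a.ker := by
  rw [← le_bot_iff, ← Scheme.IdealSheafData.le_map_iff_comap_le, Scheme.IdealSheafData.map_bot]

theorem IsRep.le {X : Scheme.{u}} {h : X ⟶ S} {K K' : X.IdealSheafData}
    (hK : IsRep f j h K) (hK' : IsRep f j h K') : K' ≤ K := by
  have h1 := (hK' _ _).2 ((hK _ _).1 (comap_subschemeι K))
  rwa [comap_eq_bot_iff, Scheme.IdealSheafData.ker_subschemeι] at h1

theorem IsRep.unique {X : Scheme.{u}} {h : X ⟶ S} {K K' : X.IdealSheafData}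
    (hK : IsRep f j h K) (hK' : IsRep f j h K') : K = K' :=
  le_antisymm (hK'.le hK) (hK.le hK')

theorem IsRep.comap {X X' : Scheme.{u}} {h : X ⟶ S} {K : X.IdealSheafData}
    (hK : IsRep f j h K) (b : X' ⟶ X) : IsRep f j (b ≫ h) (K.comap b) := by
  intro W a
  rw [← Scheme.IdealSheafData.comap_comp, hK, Category.assoc]

theorem IsRep.congr {X : Scheme.{u}} {h h' : X ⟶ S} {K : X.IdealSheafData}
    (hK : IsRep f j h K) (e : h = h') : IsRep f j h' K := e ▸ hK

/-- Descent of representability along fpqc morphisms. -/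
theorem IsRep.of_fpqc {X X' : Scheme.{u}} (b : X' ⟶ X) [Flat b] [Surjective b] [QuasiCompact b]
    {h : X ⟶ S} {K : X'.IdealSheafData} (hK : IsRep f j (b ≫ h) K) :
    IsRep f j h (K.map b) ∧ (K.map b).comap b = K := by
  have h1 : K.comap (pullback.fst b b) = K.comap (pullback.snd b b) := by
    apply (hK.comap (pullback.fst b b)).unique
    refine (hK.comap (pullback.snd b b)).congr ?_
    rw [← pullback.condition_assoc]
  have h2 : (K.map b).comap b = K := comap_map_eq_of_descent (IsPullback.of_hasPullback b b) K h1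
  refine ⟨fun W a => ?_, h2⟩
  have h3 : ((K.map b).comap a).comap (pullback.fst a b) = K.comap (pullback.snd a b) := by
    rw [← Scheme.IdealSheafData.comap_comp, pullback.condition, Scheme.IdealSheafData.comap_comp,
      h2]
  have h4 : (K.map b).comap a = ⊥ ↔ K.comap (pullback.snd a b) = ⊥ := by
    rw [← h3]
    constructor
    · intro h
      rw [h, Scheme.IdealSheafData.comap_bot]
    · intro h
      apply comap_injective_of_fpqc (pullback.fst a b)
      change ((K.map b).comap a).comap (pullback.fst a b) = Scheme.IdealSheafData.comap ⊥ _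
      rw [h, Scheme.IdealSheafData.comap_bot]
  rw [h4, hK, ← pullback.condition_assoc]
  exact ⟨fun h => h.of_fpqc, fun h => h.comp f j _⟩

/-- Zariski gluing of representability. -/
theorem exists_isRep_of_forall_exists {X : Scheme.{u}} {h : X ⟶ S}
    (H : ∀ x : X, ∃ (W : Scheme.{u}) (b : W ⟶ X) (_ : IsOpenImmersion b) (w : W)
      (K : W.IdealSheafData), b w = x ∧ IsRep f j (b ≫ h) K) :
    ∃ K : X.IdealSheafData, IsRep f j h K := by
  choose W b hb w K hw hK using H
  obtain ⟨L, hL, -⟩ := exists_unique_glue_family W b (fun x => ⟨x, w x, hw x⟩) K (by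
    intro x y
    apply ((hK x).comap (pullback.fst (b x) (b y))).unique
    refine ((hK y).comap (pullback.snd (b x) (b y))).congr ?_
    rw [← pullback.condition_assoc])
  refine ⟨L, fun T a => ?_⟩
  constructor
  · intro h0
    refine Van.of_forall_exists f j fun t => ?_
    obtain ⟨q, hq, -⟩ := Scheme.Pullback.exists_preimage_pullback (f := a) (g := b (a t)) t
      (w (a t)) (hw (a t)).symm
    refine ⟨_, pullback.fst a (b (a t)), inferInstance, q, hq, ?_⟩
    rw [pullback.condition_assoc, ← hK, ← hL, ← Scheme.IdealSheafData.comap_comp,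
      ← pullback.condition, Scheme.IdealSheafData.comap_comp, h0,
      Scheme.IdealSheafData.comap_bot]
  · intro h0
    refine ext_of_forall_exists fun t => ?_
    obtain ⟨q, hq, -⟩ := Scheme.Pullback.exists_preimage_pullback (f := a) (g := b (a t)) t
      (w (a t)) (hw (a t)).symm
    refine ⟨_, pullback.fst a (b (a t)), inferInstance, q, hq, ?_⟩
    rw [← Scheme.IdealSheafData.comap_comp, pullback.condition, Scheme.IdealSheafData.comap_comp,
      hL, Scheme.IdealSheafData.comap_bot, hK, ← pullback.condition_assoc]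
    exact h0.comp f j _

/-- A closed immersion representing the condition. -/
theorem IsRep.exists_lift_iff {K : S.IdealSheafData} (hK : IsRep f j (𝟙 S) K) {T : Scheme.{u}}
    (g : T ⟶ S) : (∃ g' : T ⟶ K.subscheme, g' ≫ K.subschemeι = g) ↔ Van f j g := by
  have h1 : Van f j g ↔ K.comap g = ⊥ := by rw [hK, Category.comp_id]
  rw [h1, comap_eq_bot_iff]
  constructor
  · rintro ⟨g', rfl⟩
    calc K = K.subschemeι.ker := K.ker_subschemeι.symm
      _ ≤ _ := Scheme.Hom.le_ker_comp _ _
  · intro h2
    exact ⟨IsClosedImmersion.lift K.subschemeι g (by rwa [Scheme.IdealSheafData.ker_subschemeι]),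
      IsClosedImmersion.lift_fac _ _ _⟩

end Groth.Agent.Sga3A.H781.RepIdeal
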